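import Groth.Agent.FpqcPure21.Sections
import Groth.Agent.Lib.AlgSp.FpqcAffine
import Groth.Agent.Lib.RLpsi8.QAffSpec
import Groth.Agent.Lib.FEt21.Clopen

/-!
# Extension of covers descends along faithfully flat morphisms
-/

set_option autoImplicit false
set_option backward.isDefEq.respectTransparency false
set_option linter.style.haveILetI false

universe u

open CategoryTheory CategoryTheory.Limits AlgebraicGeometry TopologicalSpace Opposite

noncomputable section

namespace Groth.Agent.FpqcPure21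

variable {S T S' : Scheme.{u}} (j : T ⟶ S) [QuasiCompact j] [QuasiSeparated j]
  (f : S' ⟶ S) [Flat f] [Surjective f] [QuasiCompact f]

include f

/-- Along a morphism with `O = j_* O` a cover extends if it does so after a faithfully flat
quasi-compact base change. -/
theorem exists_extension_of_flat_descent (hj : ∀ U : S.Opens, Function.Bijective (j.app U))
    (V₀ : FEt.Cat T) (W₁ : FEt.Cat S')
    (e : (FEt.restrict (pullback.snd j f)).obj W₁ ≅ (FEt.restrict (pullback.fst j f)).obj V₀) :
    ∃ Y : FEt.Cat S, Nonempty ((FEt.restrict j).obj Y ≅ V₀) := by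
  haveI : IsFinite V₀.hom := V₀.prop.1
  haveI : Etale V₀.hom := V₀.prop.2
  let a : V₀.left ⟶ S := V₀.hom ≫ j
  let B := RelSpec.QCAlg.directImage a
  let π : B.spec ⟶ S := B.π
  obtain ⟨c, hc, hγ⟩ := RLpsi8.exists_toSpecDirectImage a
  have hcbij : ∀ P : S.Opens, IsAffineOpen P → Function.Bijective (c.app (π ⁻¹ᵁ P)) := by
    intro P _
    haveI := RLpsi8.isIso_gammaMap B
    have hb : Function.Bijective ((AffAlg.algHom π a c hc).app (op P)) := by
      rw [← hγ]
      exact ConcreteCategory.bijective_of_isIso (B.gammaMap.app (op P))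
    rw [GrothLib.AffAlg8.algHom_app] at hb
    have he : a ⁻¹ᵁ P = c ⁻¹ᵁ (π ⁻¹ᵁ P) := by rw [← Scheme.Hom.comp_preimage, hc]
    have e : c.appLE (π ⁻¹ᵁ P) (a ⁻¹ᵁ P) he.le =
        c.app (π ⁻¹ᵁ P) ≫ V₀.left.presheaf.map (homOfLE he.le).op := rfl
    rw [e] at hb
    haveI : IsIso (homOfLE he.le) := ⟨homOfLE he.ge, Subsingleton.elim _ _, Subsingleton.elim _ _⟩
    exact (Function.Bijective.of_comp_iff' (ConcreteCategory.bijective_of_isIso
      (V₀.left.presheaf.map (homOfLE he.le).op)) _).1 hb
  -- base changes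
  let f' := pullback.fst j f
  let j₁ := pullback.snd j f
  haveI : Flat f' := MorphismProperty.pullback_fst _ _ inferInstance
  haveI : Surjective f' := MorphismProperty.pullback_fst _ _ inferInstance
  haveI : QuasiCompact f' := MorphismProperty.pullback_fst _ _ inferInstance
  let V₁ := (FEt.restrict f').obj V₀
  haveI : IsFinite W₁.hom := W₁.prop.1
  haveI : Etale W₁.hom := W₁.prop.2
  let g := W₁.hom
  haveI : IsIso e.inv.left := inferInstance
  let zW : V₁.left ⟶ W₁.left := e.inv.left ≫ pullback.fst g j₁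
  have sqW : IsPullback zW V₁.hom g j₁ := by
    refine (IsPullback.of_hasPullback g j₁).of_iso (asIso e.inv.left).symm (Iso.refl _) (Iso.refl _)
      (Iso.refl _) ?_ ?_ ?_ ?_
    · simp [zW]
    · have h := MorphismProperty.Over.w e.inv
      simp only [asIso_inv, Iso.symm_hom, Iso.refl_hom, Category.comp_id]
      rw [eq_comm, IsIso.inv_comp_eq]
      exact h.symm
    · simp [g]
    · simp
  let zV : V₁.left ⟶ V₀.left := pullback.fst V₀.hom f'
  let a₁ : V₁.left ⟶ S' := V₁.hom ≫ j₁
  have sqZ : IsPullback zV a₁ a f :=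
    (IsPullback.of_hasPullback V₀.hom f').paste_vert (IsPullback.of_hasPullback j f)
  let y := pullback.fst π f
  let π₁ := pullback.snd π f
  have sqY : IsPullback y π₁ π f := IsPullback.of_hasPullback π f
  let c₁ : V₁.left ⟶ pullback π f := pullback.lift (zV ≫ c) a₁ (by rw [Category.assoc, hc]; exact sqZ.w)
  have hc₁y : c₁ ≫ y = zV ≫ c := pullback.lift_fst _ _ _
  have hc₁π : c₁ ≫ π₁ = a₁ := pullback.lift_snd _ _ _
  -- sections on the base change
  have hcb : ∀ U : S'.Opens, Function.Bijective (c₁.app (π₁ ⁻¹ᵁ U)) :=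
    app_bijective_of_basis c₁ π₁ (fun x U hx => over_affine_basis f x U hx)
      (fun W hW => app_bijective_baseChange sqY sqZ c hc c₁ hc₁y hc₁π hW.2.choose_spec.1
        (hcbij _ hW.2.choose_spec.1) hW.1 hW.2.choose_spec.2)
  have hjb : ∀ U : S'.Opens, Function.Bijective (j₁.app U) :=
    app_bijective_of_basis j₁ (𝟙 S') (fun x U hx => over_affine_basis f x U hx)
      (fun W hW => app_bijective_baseChange (IsPullback.of_id_snd (f := f)) (IsPullback.of_hasPullback j f) j
        (Category.comp_id j) j₁ pullback.condition.symm (Category.comp_id j₁) hW.2.choose_spec.1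
        (hj _) hW.1 hW.2.choose_spec.2)
  have hzb : ∀ U : S'.Opens, Function.Bijective (zW.app (g ⁻¹ᵁ U)) :=
    app_bijective_of_basis zW g (fun x U hx => affine_basis x U hx)
      (fun W hW => GrothLib.FEt21.app_bijective_of_isPullback sqW hjb hW)
  have hzg : zW ≫ g = a₁ := sqW.w
  haveI : IsAffineHom π₁ := MorphismProperty.pullback_snd _ _ inferInstance
  haveI := isIso_algHom π₁ a₁ c₁ hc₁π hcb
  haveI := isIso_algHom g a₁ zW hzg hzb
  let ω := AffAlg.algHom π₁ a₁ c₁ hc₁π ≫ inv (AffAlg.algHom g a₁ zW hzg)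
  obtain ⟨θ, hθ, eθ⟩ := GrothLib.AffAlg8.exists_hom π₁ g ω (by
    rw [← Category.assoc, IsIso.comp_inv_eq, AffAlg.algHom_comm, AffAlg.algHom_comm])
  haveI : IsIso (AffAlg.algHom π₁ g θ hθ) := by rw [eθ]; infer_instance
  haveI : IsIso θ := isIso_of_isIso_algHom π₁ g θ hθ
  have hzθ : zW ≫ θ = c₁ := by
    refine GrothLib.AffAlg8.hom_ext π₁ a₁ (by rw [Category.assoc, hθ, hzg]) hc₁π ?_
    rw [RLpsi8.algHom_comp π₁ g a₁ θ hθ zW hzg, eθ]
    simp [ω]
  -- descent
  have hQ : (@Surjective ⊓ @Flat ⊓ @QuasiCompact : MorphismProperty Scheme.{u}) f := ⟨⟨‹_›, ‹_›⟩, ‹_›⟩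
  have hπ₁ : π₁ = inv θ ≫ g := by rw [IsIso.eq_inv_comp]; exact hθ
  haveI : IsFinite π₁ := by rw [hπ₁]; infer_instance
  haveI : Etale π₁ := by rw [hπ₁]; infer_instance
  haveI : IsFinite π :=
    MorphismProperty.of_pullback_snd_of_descendsAlong (P := @IsFinite)
      (Q := @Surjective ⊓ @Flat ⊓ @QuasiCompact) hQ (inferInstanceAs (IsFinite π₁))
  haveI : Etale π :=
    MorphismProperty.of_pullback_snd_of_descendsAlong (P := @Etale)
      (Q := @Surjective ⊓ @Flat ⊓ @QuasiCompact) hQ (inferInstanceAs (Etale π₁))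
  let Ybar : FEt.Cat S := MorphismProperty.Over.mk ⊤ π (GrothLib.FEt21.prop_of π)
  let κ : V₀.left ⟶ pullback π j := pullback.lift c V₀.hom hc
  have sqC : IsPullback c₁ V₁.hom π₁ j₁ :=
    sqW.of_iso (Iso.refl _) (asIso θ) (Iso.refl _) (Iso.refl _) (by simpa using hzθ) (by simp)
      (by simpa using hθ.symm) (by simp)
  have hbig : IsPullback (c₁ ≫ y) V₁.hom π (f' ≫ j) := by
    have := sqC.paste_horiz sqY
    rwa [show f' ≫ j = j₁ ≫ f from pullback.condition]
  let y' : pullback (pullback.snd π j) f' ⟶ pullback π j := pullback.fst _ _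
  let κ₁ : V₁.left ⟶ pullback (pullback.snd π j) f' :=
    pullback.lift (zV ≫ κ) V₁.hom (by rw [Category.assoc, pullback.lift_snd]; exact pullback.condition)
  have hR : IsPullback (y' ≫ pullback.fst π j) (pullback.snd (pullback.snd π j) f') π (f' ≫ j) :=
    (IsPullback.of_hasPullback (pullback.snd π j) f').paste_horiz (IsPullback.of_hasPullback π j)
  have hκ₁ : κ₁ = hbig.isoPullback.hom ≫ hR.isoPullback.inv := by
    rw [Iso.eq_comp_inv]
    apply pullback.hom_ext
    · rw [Category.assoc, hR.isoPullback_hom_fst, hbig.isoPullback_hom_fst, hc₁y, pullback.lift_fst_assoc,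
        Category.assoc, pullback.lift_fst]
    · rw [Category.assoc, hR.isoPullback_hom_snd, hbig.isoPullback_hom_snd, pullback.lift_snd]
  haveI : IsIso κ₁ := by rw [hκ₁]; infer_instance
  have sqK : IsPullback κ₁ zV y' κ := by
    refine (IsPullback.of_right (h₁₂ := pullback.snd (pullback.snd π j) f') (v₁₃ := f')
      (h₂₂ := pullback.snd π j) ?_ ((pullback.lift_fst _ _ _).symm.trans rfl).symm
        (IsPullback.of_hasPullback (pullback.snd π j) f').flip)
    rw [pullback.lift_snd, pullback.lift_snd]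
    exact (IsPullback.of_hasPullback V₀.hom f').flip
  have hQ' : (@Surjective ⊓ @Flat ⊓ @QuasiCompact : MorphismProperty Scheme.{u}) y' :=
    ⟨⟨MorphismProperty.pullback_fst _ _ (inferInstance : Surjective f'),
      MorphismProperty.pullback_fst _ _ (inferInstance : Flat f')⟩,
      MorphismProperty.pullback_fst _ _ (inferInstance : QuasiCompact f')⟩
  haveI : IsIso κ := MorphismProperty.of_isPullback_of_descendsAlong
    (P := MorphismProperty.isomorphisms Scheme.{u}) (Q := @Surjective ⊓ @Flat ⊓ @QuasiCompact) sqK hQ'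
    (inferInstanceAs (IsIso κ₁))
  exact ⟨Ybar, ⟨(MorphismProperty.Over.isoMk (A := V₀) (B := (FEt.restrict j).obj Ybar) (asIso κ)
    (pullback.lift_snd _ _ _)).symm⟩⟩

/-- Restriction along a morphism with `O = j_* O` is essentially surjective if it is so after a
faithfully flat quasi-compact base change. -/
theorem essSurj_restrict_of_flat_descent (hj : ∀ U : S.Opens, Function.Bijective (j.app U))
    (hes : (FEt.restrict (pullback.snd j f)).EssSurj) : (FEt.restrict j).EssSurj :=
  ⟨fun V₀ => exists_extension_of_flat_descent j f hj V₀ _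
    ((FEt.restrict (pullback.snd j f)).objObjPreimageIso ((FEt.restrict (pullback.fst j f)).obj V₀))⟩

end Groth.Agent.FpqcPure21
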