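import Groth.Agent.Lib.FEt21.AppBijective
import Groth.Agent.Lib.RLpsi8.AffPushout
import Mathlib.AlgebraicGeometry.Morphisms.Flat

/-!
# Bijectivity on sections: locality and flat base change
-/

set_option autoImplicit false
set_option backward.isDefEq.respectTransparency false
set_option linter.style.haveILetI false

universe u

open CategoryTheory CategoryTheory.Limits AlgebraicGeometry TopologicalSpace Opposite

namespace Groth.Agent.FpqcPure21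

variable {X Z Y S S' : Scheme.{u}}

/-- Bijectivity on sections over the preimages of opens is local. -/
theorem app_bijective_of_basis (h : Z ⟶ Y) (π : Y ⟶ S) {B : S.Opens → Prop}
    (hB : ∀ (x : S) (U : S.Opens), x ∈ U → ∃ W, B W ∧ x ∈ W ∧ W ≤ U)
    (hW : ∀ W, B W → Function.Bijective (h.app (π ⁻¹ᵁ W))) (U : S.Opens) :
    Function.Bijective (h.app (π ⁻¹ᵁ U)) := by
  have hres : ∀ {W W' : S.Opens} (hle : W' ≤ W) (t : Γ(Y, π ⁻¹ᵁ W)),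
      h.app (π ⁻¹ᵁ W') (Y.presheaf.map (homOfLE (π.preimage_mono hle)).op t) =
        Z.presheaf.map (homOfLE (h.preimage_mono (π.preimage_mono hle))).op (h.app (π ⁻¹ᵁ W) t) :=
    fun {W W'} hle t => ConcreteCategory.congr_hom (h.naturality (homOfLE (π.preimage_mono hle)).op) t
  have hinj : ∀ V : S.Opens, Function.Injective (h.app (π ⁻¹ᵁ V)) := by
    intro V s t hst
    let I := {W : S.Opens // B W ∧ W ≤ V}
    refine Y.sheaf.eq_of_locally_eq' (fun i : I => π ⁻¹ᵁ i.1) _ (fun i => homOfLE (π.preimage_mono i.2.2))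
      (fun y hy => ?_) _ _ fun i => (hW i.1 i.2.1).1 ((hres i.2.2 s).trans (Eq.trans (by rw [hst]) (hres i.2.2 t).symm))
    obtain ⟨W, hBW, hyW, hWV⟩ := hB (π y) V hy
    exact Opens.mem_iSup.2 ⟨⟨W, hBW, hWV⟩, hyW⟩
  refine ⟨hinj U, fun r => ?_⟩
  let I := {W : S.Opens // B W ∧ W ≤ U}
  choose s hs using fun i : I =>
    (hW i.1 i.2.1).2 (Z.presheaf.map (homOfLE (h.preimage_mono (π.preimage_mono i.2.2))).op r)
  have hcov : π ⁻¹ᵁ U ≤ iSup fun i : I => π ⁻¹ᵁ i.1 := fun y hy => by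
    obtain ⟨W, hBW, hyW, hWV⟩ := hB (π y) U hy
    exact Opens.mem_iSup.2 ⟨⟨W, hBW, hWV⟩, hyW⟩
  have hcompat : TopCat.Presheaf.IsCompatible Y.sheaf.1 (fun i : I => π ⁻¹ᵁ i.1) s := by
    intro i k
    show Y.presheaf.map (homOfLE (π.preimage_mono (inf_le_left : i.1 ⊓ k.1 ≤ i.1))).op (s i) =
      Y.presheaf.map (homOfLE (π.preimage_mono (inf_le_right : i.1 ⊓ k.1 ≤ k.1))).op (s k)
    refine hinj (i.1 ⊓ k.1) ?_
    rw [hres inf_le_left, hres inf_le_right, hs, hs, ← ConcreteCategory.comp_apply, ← ConcreteCategory.comp_apply,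
      ← Functor.map_comp, ← Functor.map_comp]
    rfl
  obtain ⟨a, ha, -⟩ := Y.sheaf.existsUnique_gluing' (fun i : I => π ⁻¹ᵁ i.1) (π ⁻¹ᵁ U)
    (fun i => homOfLE (π.preimage_mono i.2.2)) hcov s hcompat
  refine ⟨a, Z.sheaf.eq_of_locally_eq' (fun i : I => h ⁻¹ᵁ (π ⁻¹ᵁ i.1)) _
    (fun i => homOfLE (h.preimage_mono (π.preimage_mono i.2.2)))
    (fun z hz => ?_) _ _ fun i => ?_⟩
  · obtain ⟨W, hBW, hzW, hWV⟩ := hB (π (h z)) U hz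
    exact Opens.mem_iSup.2 ⟨⟨W, hBW, hWV⟩, hzW⟩
  · show Z.presheaf.map _ (h.app (π ⁻¹ᵁ U) a) = Z.presheaf.map _ r
    rw [← hres i.2.2 a]
    exact (congrArg (h.app (π ⁻¹ᵁ i.1)) (ha i)).trans (hs i)

theorem affine_basis (x : S) (U : S.Opens) (hx : x ∈ U) :
    ∃ W : S.Opens, IsAffineOpen W ∧ x ∈ W ∧ W ≤ U := by
  obtain ⟨_, ⟨W, hW, rfl⟩, hxW, hWU⟩ := S.isBasis_affineOpens.exists_subset_of_mem_open hx U.isOpen
  exact ⟨W, hW, hxW, hWU⟩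

/-- The affine opens lying over affine opens. -/
theorem over_affine_basis (f : S' ⟶ S) (x : S') (U : S'.Opens) (hx : x ∈ U) :
    ∃ W : S'.Opens, (IsAffineOpen W ∧ ∃ P : S.Opens, IsAffineOpen P ∧ W ≤ f ⁻¹ᵁ P) ∧ x ∈ W ∧ W ≤ U := by
  obtain ⟨P, hP, hxP, -⟩ := affine_basis (f x) ⊤ trivial
  obtain ⟨W, hW, hxW, hWU⟩ := affine_basis x (U ⊓ f ⁻¹ᵁ P) ⟨hx, hxP⟩
  exact ⟨W, ⟨hW, P, hP, hWU.trans inf_le_right⟩, hxW, hWU.trans inf_le_left⟩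

/-- An isomorphism on sections stays one after flat base change. -/
theorem app_bijective_baseChange {Y₁ Z₁ : Scheme.{u}} {f : S' ⟶ S} [Flat f] {π : Y ⟶ S} {a : Z ⟶ S}
    [QuasiCompact π] [QuasiSeparated π] [QuasiCompact a] [QuasiSeparated a]
    {y : Y₁ ⟶ Y} {π₁ : Y₁ ⟶ S'} {z : Z₁ ⟶ Z} {a₁ : Z₁ ⟶ S'}
    (sqY : IsPullback y π₁ π f) (sqZ : IsPullback z a₁ a f) (c : Z ⟶ Y) (hc : c ≫ π = a)
    (c₁ : Z₁ ⟶ Y₁) (h₁ : c₁ ≫ y = z ≫ c) (h₂ : c₁ ≫ π₁ = a₁)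
    {P : S.Opens} (hP : IsAffineOpen P) (hbij : Function.Bijective (c.app (π ⁻¹ᵁ P)))
    {Q : S'.Opens} (hQ : IsAffineOpen Q) (hQP : Q ≤ f ⁻¹ᵁ P) :
    Function.Bijective (c₁.app (π₁ ⁻¹ᵁ Q)) := by
  subst hc
  subst h₂
  have hle : ∀ {W : Scheme.{u}} {b : W ⟶ S'} {w : W ⟶ S}, w = b ≫ f → b ⁻¹ᵁ Q ≤ w ⁻¹ᵁ P := by
    rintro W b w rfl
    exact b.preimage_mono hQP
  have eY : π₁ ⁻¹ᵁ Q ≤ y ⁻¹ᵁ (π ⁻¹ᵁ P) := hle sqY.w
  have eZ : c₁ ⁻¹ᵁ (π₁ ⁻¹ᵁ Q) ≤ z ⁻¹ᵁ (c ⁻¹ᵁ (π ⁻¹ᵁ P)) := hle sqZ.w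
  have uY : π₁ ⁻¹ᵁ Q = y ⁻¹ᵁ (π ⁻¹ᵁ P) ⊓ π₁ ⁻¹ᵁ Q := (inf_eq_right.2 eY).symm
  have uZ : (c₁ ≫ π₁) ⁻¹ᵁ Q = z ⁻¹ᵁ ((c ≫ π) ⁻¹ᵁ P) ⊓ (c₁ ≫ π₁) ⁻¹ᵁ Q := (inf_eq_right.2 eZ).symm
  have iY := isIso_pushoutSection_of_isQuasiSeparated_of_flat_right sqY hQP (le_refl (π ⁻¹ᵁ P)) uY hP hQ
    (π.isCompact_preimage hP.isCompact) (π.isQuasiSeparated_preimage hP.isQuasiSeparated)
  have iZ := isIso_pushoutSection_of_isQuasiSeparated_of_flat_right sqZ hQP (le_refl ((c ≫ π) ⁻¹ᵁ P)) uZ hP hQ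
    ((c ≫ π).isCompact_preimage hP.isCompact) ((c ≫ π).isQuasiSeparated_preimage hP.isQuasiSeparated)
  have pY := (isIso_pushoutSection_iff sqY hQP (le_refl (π ⁻¹ᵁ P)) uY).1 iY
  have pZ := (isIso_pushoutSection_iff sqZ hQP (le_refl ((c ≫ π) ⁻¹ᵁ P)) uZ).1 iZ
  haveI : IsIso (c.app (π ⁻¹ᵁ P)) := (ConcreteCategory.isIso_iff_bijective _).2 hbij
  let eM : Γ(Y, π ⁻¹ᵁ P) ≅ Γ(Z, (c ≫ π) ⁻¹ᵁ P) := asIso (c.app (π ⁻¹ᵁ P))
  have hM : π.appLE P (π ⁻¹ᵁ P) le_rfl ≫ eM.hom = (c ≫ π).appLE P ((c ≫ π) ⁻¹ᵁ P) le_rfl := by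
    show π.appLE P (π ⁻¹ᵁ P) le_rfl ≫ c.app (π ⁻¹ᵁ P) = _
    rw [Scheme.Hom.app_eq_appLE, Scheme.Hom.appLE_comp_appLE]
    rfl
  have pY' : IsPushout ((c ≫ π).appLE P ((c ≫ π) ⁻¹ᵁ P) le_rfl) (f.appLE P Q hQP)
      (eM.inv ≫ y.appLE (π ⁻¹ᵁ P) (π₁ ⁻¹ᵁ Q) eY) (π₁.appLE Q (π₁ ⁻¹ᵁ Q) le_rfl) :=
    pY.of_iso (Iso.refl _) eM (Iso.refl _) (Iso.refl _) (by simpa using hM) (by simp) (by simp) (by simp)
  have key : (pY'.isoIsPushout _ _ pZ).hom = c₁.app (π₁ ⁻¹ᵁ Q) := by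
    apply pY'.hom_ext
    · rw [IsPushout.inl_isoIsPushout_hom, Category.assoc, Iso.eq_inv_comp]
      show c.app (π ⁻¹ᵁ P) ≫ _ = _
      rw [Scheme.Hom.app_eq_appLE, Scheme.Hom.app_eq_appLE, Scheme.Hom.appLE_comp_appLE]
      erw [Scheme.Hom.appLE_comp_appLE]
      congr 1 <;> exact h₁.symm
    · rw [IsPushout.inr_isoIsPushout_hom, Scheme.Hom.app_eq_appLE, Scheme.Hom.appLE_comp_appLE]
      rfl
  rw [← key]
  exact ConcreteCategory.bijective_of_isIso _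

/-- The algebra map of a morphism is an isomorphism when it is bijective on sections. -/
theorem isIso_algHom {T : Scheme.{u}} (f : T ⟶ S) (g : Z ⟶ S) (h : Z ⟶ T) (w : h ≫ f = g)
    (hb : ∀ U : S.Opens, Function.Bijective (h.app (f ⁻¹ᵁ U))) : IsIso (AffAlg.algHom f g h w) := by
  subst w
  have : ∀ U, IsIso ((AffAlg.algHom f (h ≫ f) h rfl).app U) := fun ⟨U⟩ => by
    rw [GrothLib.AffAlg8.algHom_app]
    rw [ConcreteCategory.isIso_iff_bijective]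
    have e : h.appLE (f ⁻¹ᵁ U) ((h ≫ f) ⁻¹ᵁ U) le_rfl = h.app (f ⁻¹ᵁ U) := Scheme.Hom.appLE_eq_app _
    rw [e]
    exact hb U
  exact NatIso.isIso_of_isIso_app _

theorem algHom_id {T : Scheme.{u}} (f : T ⟶ S) (w : 𝟙 T ≫ f = f) :
    AffAlg.algHom f f (𝟙 T) w = 𝟙 _ := by
  apply NatTrans.ext; funext U
  induction U with | op U =>
  rw [GrothLib.AffAlg8.algHom_app]
  exact (Scheme.Hom.appLE_eq_app _).trans (by simp; rfl)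

/-- Schemes affine over the base with the same algebra are isomorphic. -/
theorem isIso_of_isIso_algHom {T T' : Scheme.{u}} (f : T ⟶ S) (f' : T' ⟶ S) [IsAffineHom f] [IsAffineHom f']
    (h : T' ⟶ T) (w : h ≫ f = f') [IsIso (AffAlg.algHom f f' h w)] : IsIso h := by
  obtain ⟨k, wk, ek⟩ := GrothLib.AffAlg8.exists_hom f' f (inv (AffAlg.algHom f f' h w)) (by
    rw [IsIso.comp_inv_eq, AffAlg.algHom_comm])
  refine ⟨k, GrothLib.AffAlg8.hom_ext f' f' (by rw [Category.assoc, wk, w]) (Category.id_comp _) ?_,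
    GrothLib.AffAlg8.hom_ext f f (by rw [Category.assoc, w, wk]) (Category.id_comp _) ?_⟩
  · rw [RLpsi8.algHom_comp f' f f' k wk h w, ek, IsIso.inv_hom_id, algHom_id]
  · rw [RLpsi8.algHom_comp f f' f h w k wk, ek, IsIso.hom_inv_id, algHom_id]

end Groth.Agent.FpqcPure21
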